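import Mathlib
import Cfsg.Agent.H527.RC.Defs

/-!
# Rigid subsets by counting (S4191, `ColB 3 2 3`, helper889)
-/

set_option autoImplicit false

namespace Cfsg.Agent.H889.RC

open MulAction
open Cfsg.Agent.H527.RC (Rig PEl)

universe u v

/-! ### Arithmetic -/

theorem sixteen_choose : ∀ n : ℕ, 5 ≤ n → ∀ k : ℕ, 16 * n.choose k ≤ 5 * 2 ^ n := by
  intro n hn
  induction n, hn using Nat.le_induction with
  | base =>
    intro k
    have h1 : Nat.choose 5 k ≤ Nat.choose 5 2 := Nat.choose_le_middle k 5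
    have h2 : Nat.choose 5 2 = 10 := by decide
    omega
  | succ n hn IH =>
    intro k
    cases k with
    | zero =>
      have h0 := IH 0
      rw [Nat.choose_zero_right] at h0 ⊢
      rw [pow_succ]
      omega
    | succ k =>
      rw [Nat.choose_succ_succ, pow_succ]
      have h1 := IH k
      have h2 := IH (k + 1)
      rw [Nat.succ_eq_add_one]
      omega

theorem pow_four_le : ∀ n : ℕ, 49 ≤ n → n ^ 4 * 2 ^ (n / 2) ≤ 2 ^ (n - 2) := by
  intro n
  induction n using Nat.strong_induction_on with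
  | _ n IH =>
    intro hn
    rcases Nat.lt_or_ge n 51 with h | h
    · have : n = 49 ∨ n = 50 := by omega
      rcases this with rfl | rfl <;> norm_num
    · obtain ⟨m, rfl⟩ : ∃ m, n = m + 2 := ⟨n - 2, by omega⟩
      have h1 := IH m (by omega) (by omega)
      have h2 : (m + 2) / 2 = m / 2 + 1 := by omega
      have h3 : m + 2 - 2 = (m - 2) + 2 := by omega
      rw [h2, h3, pow_succ, pow_add 2 (m - 2) 2]
      have h4 : (m + 2) ^ 4 ≤ 2 * m ^ 4 := by
        have h5 : 49 ≤ m := by omega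
        have h6 : (m + 2) * (m + 2) * 25 ≤ 28 * (m * m) := by nlinarith
        have h7 : ((m + 2) * (m + 2) * 25) * ((m + 2) * (m + 2) * 25) ≤ (28 * (m * m)) * (28 * (m * m)) :=
          Nat.mul_le_mul h6 h6
        have h8 : (m + 2) ^ 4 * 625 ≤ 784 * m ^ 4 := by
          calc (m + 2) ^ 4 * 625 = ((m + 2) * (m + 2) * 25) * ((m + 2) * (m + 2) * 25) := by ring
            _ ≤ (28 * (m * m)) * (28 * (m * m)) := h7
            _ = 784 * m ^ 4 := by ring
        omega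
      calc (m + 2) ^ 4 * (2 ^ (m / 2) * 2) ≤ (2 * m ^ 4) * (2 ^ (m / 2) * 2) := Nat.mul_le_mul_right _ h4
        _ = (m ^ 4 * 2 ^ (m / 2)) * 4 := by ring
        _ ≤ 2 ^ (m - 2) * 4 := Nat.mul_le_mul_right _ h1
        _ = 2 ^ (m - 2) * 2 ^ 2 := by norm_num

/-- the numerical inequality for `n ≥ 49` -/
theorem big_ineq (n B E : ℕ) (hn : 49 ≤ n) (hB : B ≤ n ^ 4) (hE : E ≤ n / 2) :
    B * 2 ^ E + 2 * n.choose (n / 2) < 2 ^ n := by
  have h1 := pow_four_le n hn
  have h2 := sixteen_choose n (by omega) (n / 2)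
  have h3 : B * 2 ^ E ≤ n ^ 4 * 2 ^ (n / 2) := Nat.mul_le_mul hB (Nat.pow_le_pow_right (by norm_num) hE)
  have h4 : 2 ^ n = 2 ^ (n - 2) * 4 := by
    rw [← pow_succ_two_aux n (by omega)]
  have h5 : 0 < 2 ^ (n - 2) := Nat.pow_pos (by norm_num)
  omega
where
  pow_succ_two_aux (n : ℕ) (h : 2 ≤ n) : 2 ^ n = 2 ^ (n - 2) * 4 := by
    obtain ⟨m, rfl⟩ : ∃ m, n = m + 2 := ⟨n - 2, by omega⟩
    rw [Nat.add_sub_cancel, pow_add]
    norm_num

/-- the numerical inequality for `n = 25` -/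
theorem ineq_25 (B : ℕ) (hB : B ≤ 25 * 24 * 23) : B * 2 ^ 9 + 2 * Nat.choose 25 (25 / 2) < 2 ^ 25 := by
  have h : Nat.choose 25 (25 / 2) = 5200300 := by norm_num [Nat.choose]
  rw [h]
  norm_num
  omega

/-! ### Counting -/

/-- a set not preserved by elements of order three -/
theorem rig_of {H : Type u} {Δ : Type v} [Group H] [MulAction H Δ] (Γ : Set Δ)
    (h : ∀ z : H, z ≠ 1 → z ^ 3 = 1 → ¬ ∀ δ, z • δ ∈ Γ ↔ δ ∈ Γ) : Rig 3 H (fun δ => δ ∈ Γ) := by
  intro y hy hyΓ δ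
  by_cases hy1 : y = 1
  · rw [hy1, one_smul]
  exfalso
  obtain ⟨k, hk⟩ := hy
  have hdvd : orderOf y ∣ 3 ^ k := orderOf_dvd_of_pow_eq_one hk
  obtain ⟨j, hj, hjo⟩ := (Nat.dvd_prime_pow Nat.prime_three).1 hdvd
  have hj0 : j ≠ 0 := by
    rintro rfl
    rw [pow_zero, orderOf_eq_one_iff] at hjo
    exact hy1 hjo
  obtain ⟨i, rfl⟩ := Nat.exists_eq_succ_of_ne_zero hj0
  have hpow : ∀ m : ℕ, ∀ δ, y ^ m • δ ∈ Γ ↔ δ ∈ Γ := by
    intro m
    induction m with
    | zero => intro δ; rw [pow_zero, one_smul]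
    | succ m IH =>
      intro δ
      rw [pow_succ, mul_smul, IH]
      exact iff_of_eq (hyΓ δ)
  refine h (y ^ 3 ^ i) ?_ ?_ (hpow _)
  · intro h1
    have h2 := orderOf_dvd_of_pow_eq_one h1
    rw [hjo] at h2
    have h3 := (Nat.pow_dvd_pow_iff_le_right (by norm_num : 1 < 3)).1 h2
    omega
  · rw [← pow_mul, ← pow_succ]
    rw [← hjo]
    exact pow_orderOf_eq_one y

/-- the number of subsets preserved by `z` -/
theorem card_inv_le {H : Type u} {Δ : Type v} [Group H] [MulAction H Δ] [Finite Δ] (z : H) :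
    Nat.card {Γ : Set Δ // ∀ δ, z • δ ∈ Γ ↔ δ ∈ Γ} ≤ 2 ^ Nat.card (orbitRel.Quotient (Subgroup.zpowers z) Δ) := by
  classical
  have := Fintype.ofFinite Δ
  have : Finite (orbitRel.Quotient (Subgroup.zpowers z) Δ) := Quotient.finite _
  have hset : Nat.card (Set (orbitRel.Quotient (Subgroup.zpowers z) Δ)) =
      2 ^ Nat.card (orbitRel.Quotient (Subgroup.zpowers z) Δ) := by
    have := Fintype.ofFinite (orbitRel.Quotient (Subgroup.zpowers z) Δ)
    rw [Nat.card_eq_fintype_card, Nat.card_eq_fintype_card, Fintype.card_set]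
  rw [← hset]
  let q : Δ → orbitRel.Quotient (Subgroup.zpowers z) Δ := Quotient.mk _
  refine Nat.card_le_card_of_injective
    (fun Γ : {Γ : Set Δ // ∀ δ, z • δ ∈ Γ ↔ δ ∈ Γ} => q '' Γ.1) ?_
  have hz : ∀ Γ : {Γ : Set Δ // ∀ δ, z • δ ∈ Γ ↔ δ ∈ Γ}, ∀ g ∈ Subgroup.zpowers z, ∀ δ,
      g • δ ∈ Γ.1 ↔ δ ∈ Γ.1 := by
    intro Γ g hg
    obtain ⟨i, rfl⟩ := (Subgroup.mem_zpowers_iff).1 hg
    have hpos : ∀ m : ℕ, ∀ δ, z ^ m • δ ∈ Γ.1 ↔ δ ∈ Γ.1 := by
      intro m
      induction m with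
      | zero => intro δ; rw [pow_zero, one_smul]
      | succ m IH =>
        intro δ
        rw [pow_succ, mul_smul, IH]
        exact Γ.2 δ
    intro δ
    cases i with
    | ofNat m =>
      have := hpos m δ
      rwa [← zpow_natCast] at this
    | negSucc m =>
      have := hpos (m + 1) (z ^ (Int.negSucc m) • δ)
      rw [← this, zpow_negSucc, smul_inv_smul]
  have key : ∀ Γ : {Γ : Set Δ // ∀ δ, z • δ ∈ Γ ↔ δ ∈ Γ}, q ⁻¹' (q '' Γ.1) = Γ.1 := by
    intro Γ
    ext δ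
    constructor
    · rintro ⟨ε, hε, hq⟩
      have h1 : (orbitRel (Subgroup.zpowers z) Δ) ε δ := Quotient.exact hq
      rw [orbitRel_apply] at h1
      obtain ⟨g, hg⟩ := h1
      have h2 := hz Γ g.1 g.2 δ
      rw [← h2]
      have h3 : g.1 • δ = ε := hg
      rw [h3]
      exact hε
    · intro h
      exact ⟨δ, h, rfl⟩
  intro Γ₁ Γ₂ h
  apply Subtype.ext
  rw [← key Γ₁, ← key Γ₂]
  exact congrArg (fun s => q ⁻¹' s) h

/-- **Counting**: three rigid subsets of different sizes. -/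
theorem exists_three {H : Type u} {Δ : Type v} [Group H] [Finite H] [MulAction H Δ] [Finite Δ] (E : ℕ)
    (hE : ∀ z : H, z ≠ 1 → z ^ 3 = 1 → Nat.card (orbitRel.Quotient (Subgroup.zpowers z) Δ) ≤ E)
    (hn : Nat.card H * 2 ^ E + 2 * (Nat.card Δ).choose (Nat.card Δ / 2) < 2 ^ Nat.card Δ) :
    ∃ Γ : Fin 3 → Set Δ, (∀ i, Rig 3 H (fun δ => δ ∈ Γ i)) ∧ ∀ i j, (Γ i).ncard = (Γ j).ncard → i = j := by
  classical
  have := Fintype.ofFinite Δ
  have := Fintype.ofFinite H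
  set P : Finset Δ → Prop := fun Γ => ∀ z : H, z ≠ 1 → z ^ 3 = 1 → ¬ ∀ δ, z • δ ∈ Γ ↔ δ ∈ Γ with hP
  set good : Finset (Finset Δ) := Finset.univ.filter P with hgood
  set bad : Finset (Finset Δ) := Finset.univ.filter (fun Γ => ¬ P Γ) with hbad
  have h1 : good.card + bad.card = 2 ^ Nat.card Δ := by
    rw [hgood, hbad, Finset.card_filter_add_card_filter_not, Finset.card_univ, Fintype.card_finset,
      Nat.card_eq_fintype_card]
  have h2 : bad.card ≤ Nat.card H * 2 ^ E := by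
    have h3 : bad ⊆ (Finset.univ.filter (fun z : H => z ≠ 1 ∧ z ^ 3 = 1)).biUnion
        (fun z => Finset.univ.filter (fun Γ : Finset Δ => ∀ δ, z • δ ∈ Γ ↔ δ ∈ Γ)) := by
      intro Γ hΓ
      rw [hbad, Finset.mem_filter] at hΓ
      have h4 := hΓ.2
      rw [hP] at h4
      obtain ⟨z, hz1, hz3, hz⟩ : ∃ z : H, z ≠ 1 ∧ z ^ 3 = 1 ∧ ∀ δ, z • δ ∈ Γ ↔ δ ∈ Γ := by
        by_contra hcon
        refine h4 (fun z hz1 hz3 hz => hcon ⟨z, hz1, hz3, hz⟩)
      rw [Finset.mem_biUnion]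
      exact ⟨z, Finset.mem_filter.2 ⟨Finset.mem_univ _, hz1, hz3⟩, Finset.mem_filter.2 ⟨Finset.mem_univ _, hz⟩⟩
    refine (Finset.card_le_card h3).trans ?_
    refine (Finset.card_biUnion_le_card_mul _ _ (2 ^ E) ?_).trans ?_
    · intro z hz
      rw [Finset.mem_filter] at hz
      have h5 := card_inv_le (Δ := Δ) z
      have h6 := hE z hz.2.1 hz.2.2
      have h7 : (Finset.univ.filter (fun Γ : Finset Δ => ∀ δ, z • δ ∈ Γ ↔ δ ∈ Γ)).card =
          Nat.card {Γ : Finset Δ // ∀ δ, z • δ ∈ Γ ↔ δ ∈ Γ} := by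
        rw [Nat.card_eq_fintype_card, Fintype.card_subtype]
      rw [h7]
      refine le_trans ?_ (h5.trans (Nat.pow_le_pow_right (by norm_num) h6))
      refine Nat.card_le_card_of_injective
        (fun Γ : {Γ : Finset Δ // ∀ δ, z • δ ∈ Γ ↔ δ ∈ Γ} =>
          (⟨(Γ.1 : Set Δ), fun δ => by
            rw [Finset.mem_coe, Finset.mem_coe]
            exact Γ.2 δ⟩ : {Γ : Set Δ // ∀ δ, z • δ ∈ Γ ↔ δ ∈ Γ})) ?_
      intro Γ₁ Γ₂ h
      apply Subtype.ext
      exact Finset.coe_injective (congrArg Subtype.val h)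
    · refine Nat.mul_le_mul_right _ ?_
      rw [Nat.card_eq_fintype_card, ← Finset.card_univ]
      exact Finset.card_le_card (Finset.filter_subset _ _)
  have h3 : 2 * (Nat.card Δ).choose (Nat.card Δ / 2) < good.card := by omega
  have h4 : good.card ≤ (Nat.card Δ).choose (Nat.card Δ / 2) * (good.image Finset.card).card := by
    refine Finset.card_le_mul_card_image (f := Finset.card) good _ ?_
    intro k _
    have h5 : (good.filter (fun Γ => Γ.card = k)).card ≤ (Finset.powersetCard k (Finset.univ : Finset Δ)).card := by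
      refine Finset.card_le_card ?_
      intro Γ hΓ
      rw [Finset.mem_filter] at hΓ
      rw [Finset.mem_powersetCard]
      exact ⟨Finset.subset_univ _, hΓ.2⟩
    rw [Finset.card_powersetCard, Finset.card_univ] at h5
    refine h5.trans ?_
    rw [Nat.card_eq_fintype_card]
    exact Nat.choose_le_middle k _
  have h5 : 2 < (good.image Finset.card).card := by
    by_contra hcon
    have h6 : (good.image Finset.card).card ≤ 2 := not_lt.1 hcon
    have h7 := Nat.mul_le_mul_left ((Nat.card Δ).choose (Nat.card Δ / 2)) h6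
    omega
  obtain ⟨a, ha, b, hb, c, hc, hab, hac, hbc⟩ := Finset.two_lt_card.1 h5
  rw [Finset.mem_image] at ha hb hc
  obtain ⟨A, hA, rfl⟩ := ha
  obtain ⟨B, hB, rfl⟩ := hb
  obtain ⟨C, hC, rfl⟩ := hc
  have hrig : ∀ Γ ∈ good, Rig 3 H (fun δ => δ ∈ ((Γ : Finset Δ) : Set Δ)) := by
    intro Γ hΓ
    rw [hgood, Finset.mem_filter] at hΓ
    refine rig_of _ ?_
    intro z hz1 hz3 h
    refine hΓ.2 z hz1 hz3 ?_
    intro δ
    have := h δ
    rwa [Finset.mem_coe, Finset.mem_coe] at this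
  refine ⟨![(A : Set Δ), (B : Set Δ), (C : Set Δ)], ?_, ?_⟩
  · intro i
    fin_cases i
    · exact hrig A hA
    · exact hrig B hB
    · exact hrig C hC
  · intro i j
    fin_cases i <;> fin_cases j <;>
      simp [Set.ncard_coe_finset, hab, hac, hbc, hab.symm, hac.symm, hbc.symm]

end Cfsg.Agent.H889.RC
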