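import Mathlib

/-!
# Orbits of elements of order three (S4191, `ColB 3 2 3`, helper889)
-/

set_option autoImplicit false

namespace Cfsg.Agent.H889.RC

open MulAction

universe u v

/-- orbits of a group of order three -/
theorem card_orbits {C : Type u} {Δ : Type v} [Group C] [MulAction C Δ] [Finite Δ] (hC : Nat.card C = 3) :
    Nat.card (orbitRel.Quotient C Δ) * 3 = Nat.card Δ + 2 * Nat.card (fixedPoints C Δ) := by
  classical
  have : Finite C := Nat.finite_of_card_ne_zero (by rw [hC]; norm_num)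
  have := Fintype.ofFinite C
  have := Fintype.ofFinite Δ
  have : Finite (orbitRel.Quotient C Δ) := Quotient.finite _
  have := Fintype.ofFinite (orbitRel.Quotient C Δ)
  have h1 := sum_card_fixedBy_eq_card_orbits_mul_card_group C Δ
  rw [← Nat.card_eq_fintype_card (α := C), hC] at h1
  rw [Nat.card_eq_fintype_card (α := orbitRel.Quotient C Δ)]
  have h1' : Fintype.card (orbitRel.Quotient C Δ) * 3 = ∑ a : C, Fintype.card (fixedBy Δ a) := by
    rw [h1]
  rw [h1', ← Finset.add_sum_erase _ _ (Finset.mem_univ (1 : C))]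
  have h2 : Fintype.card (fixedBy Δ (1 : C)) = Nat.card Δ := by
    rw [← Nat.card_eq_fintype_card, fixedBy_one_eq_univ, Nat.card_coe_set_eq, Set.ncard_univ]
  have h3 : ∀ a ∈ Finset.univ.erase (1 : C), Fintype.card (fixedBy Δ a) = Nat.card (fixedPoints C Δ) := by
    intro a ha
    rw [Finset.mem_erase] at ha
    rw [← Nat.card_eq_fintype_card]
    have : Fact (Nat.Prime 3) := ⟨Nat.prime_three⟩
    have h4 : Subgroup.zpowers a = ⊤ := zpowers_eq_top_of_prime_card hC ha.1
    have h5 : fixedBy Δ a = fixedPoints C Δ := by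
      ext δ
      constructor
      · intro h c
        have h6 : Subgroup.zpowers a ≤ stabilizer C δ := by
          rw [Subgroup.zpowers_le]
          exact h
        rw [h4] at h6
        exact h6 (Subgroup.mem_top c)
      · intro h
        exact h a
    rw [h5]
  rw [h2, Finset.sum_congr rfl h3, Finset.sum_const, Finset.card_erase_of_mem (Finset.mem_univ _),
    Finset.card_univ, ← Nat.card_eq_fintype_card, hC, smul_eq_mul]

/-- orbits of an element of order three in a group with a regular normal subgroup -/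
theorem orbits_aux {H : Type u} {Δ : Type v} [Group H] [Finite H] [MulAction H Δ] [FaithfulSMul H Δ] [Finite Δ]
    (M : Subgroup H) [hMn : M.Normal] (h3 : ¬ 3 ∣ Nat.card Δ) (htr : IsPretransitive M Δ)
    (hst : ∀ ω : Δ, stabilizer M ω = ⊥) (z : H) (hz : z ≠ 1) (hz3 : z ^ 3 = 1) :
    ∃ f c : ℕ, Nat.card Δ = f * c ∧ c % 3 = 1 ∧ c ≠ 1 ∧
      Nat.card (orbitRel.Quotient (Subgroup.zpowers z) Δ) * 3 = Nat.card Δ + 2 * f := by
  have : Fact (Nat.Prime 3) := ⟨Nat.prime_three⟩
  have hoz : orderOf z = 3 := orderOf_eq_prime hz3 hz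
  have hC : Nat.card (Subgroup.zpowers z) = 3 := by rw [Nat.card_zpowers, hoz]
  have h1 := card_orbits (Δ := Δ) hC
  have hp : IsPGroup 3 (Subgroup.zpowers z) := IsPGroup.of_card (n := 1) (by rw [hC, pow_one])
  have h2 := hp.card_modEq_card_fixedPoints Δ
  have h0 : Nat.card (fixedPoints (Subgroup.zpowers z) Δ) ≠ 0 := by
    intro h0
    rw [h0] at h2
    exact h3 ((Nat.modEq_zero_iff_dvd).1 h2)
  have hne : Nonempty (fixedPoints (Subgroup.zpowers z) Δ) := (Nat.card_pos_iff.1 (Nat.pos_of_ne_zero h0)).1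
  obtain ⟨⟨ω, hω⟩⟩ := hne
  have hzω : z • ω = ω := hω ⟨z, Subgroup.mem_zpowers z⟩
  have hfix : ∀ δ : Δ, δ ∈ fixedPoints (Subgroup.zpowers z) Δ ↔ z • δ = δ := by
    intro δ
    constructor
    · intro h
      exact h ⟨z, Subgroup.mem_zpowers z⟩
    · intro h c
      have h6 : Subgroup.zpowers z ≤ stabilizer H δ := by
        rw [Subgroup.zpowers_le]
        exact h
      exact h6 c.2
  have hinj : ∀ m ∈ M, m • ω = ω → m = 1 := by
    intro m hm h
    have h4 : (⟨m, hm⟩ : M) ∈ stabilizer M ω := h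
    rw [hst, Subgroup.mem_bot] at h4
    exact congrArg Subtype.val h4
  have hcomm : ∀ m ∈ M, z • m • ω = m • ω ↔ z * m = m * z := by
    intro m hm
    constructor
    · intro h
      have h5 : (m⁻¹ * (z * m * z⁻¹)) • ω = ω := by
        rw [mul_smul, mul_smul, mul_smul]
        rw [show z⁻¹ • ω = ω from by rw [inv_smul_eq_iff, hzω], h, inv_smul_smul]
      have h6 := hinj _ (M.mul_mem (M.inv_mem hm) (hMn.conj_mem m hm z)) h5
      rw [inv_mul_eq_one] at h6
      rw [eq_mul_inv_iff_mul_eq] at h6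
      exact h6.symm
    · intro h
      rw [← mul_smul, h, mul_smul, hzω]
  have hcard : Nat.card (fixedPoints (Subgroup.zpowers z) Δ) =
      Nat.card ((Subgroup.centralizer ({z} : Set H)).subgroupOf M) := by
    symm
    refine Nat.card_congr (Equiv.ofBijective (fun m : (Subgroup.centralizer ({z} : Set H)).subgroupOf M =>
      (⟨(m : M) • ω, (hfix _).2 ?_⟩ : fixedPoints (Subgroup.zpowers z) Δ)) ⟨?_, ?_⟩)
    · have h4 := m.2
      rw [Subgroup.mem_subgroupOf, Subgroup.mem_centralizer_singleton_iff] at h4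
      exact (hcomm (m : M).1 (m : M).2).2 h4.symm
    · intro m₁ m₂ h
      have h4 : (m₁ : M) • ω = (m₂ : M) • ω := congrArg Subtype.val h
      have h5 : (m₂ : M)⁻¹ * (m₁ : M) ∈ stabilizer M ω := by
        rw [mem_stabilizer_iff, mul_smul, h4, inv_smul_smul]
      rw [hst, Subgroup.mem_bot, inv_mul_eq_one] at h5
      exact Subtype.ext h5.symm
    · rintro ⟨δ, hδ⟩
      obtain ⟨m, hm⟩ := htr.exists_smul_eq ω δ
      rw [hfix] at hδ
      refine ⟨⟨m, ?_⟩, Subtype.ext hm⟩
      rw [Subgroup.mem_subgroupOf, Subgroup.mem_centralizer_singleton_iff]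
      symm
      rw [← hcomm m.1 m.2]
      have h4 : (m : H) • ω = δ := hm
      rw [h4, hδ]
  have hMcard : Nat.card M = Nat.card Δ := by
    refine Nat.card_congr (Equiv.ofBijective (fun m : M => m • ω) ⟨?_, ?_⟩)
    · intro m₁ m₂ h
      have h4 : m₁ • ω = m₂ • ω := h
      have h5 : m₂⁻¹ * m₁ ∈ stabilizer M ω := by
        rw [mem_stabilizer_iff, mul_smul, h4, inv_smul_smul]
      rw [hst, Subgroup.mem_bot, inv_mul_eq_one] at h5
      exact h5.symm
    · intro δ
      exact htr.exists_smul_eq ω δ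
  have hdvd : Nat.card (fixedPoints (Subgroup.zpowers z) Δ) ∣ Nat.card Δ := by
    rw [hcard, ← hMcard]
    exact Subgroup.card_subgroup_dvd_card _
  obtain ⟨c, hc⟩ := hdvd
  refine ⟨_, c, hc, ?_, ?_, h1⟩
  · set f := Nat.card (fixedPoints (Subgroup.zpowers z) Δ) with hf
    have h5 : (f * c) % 3 = f % 3 := by
      rw [← hc]
      exact h2
    have h6 : ¬ f % 3 = 0 := by
      intro h6
      have h7 : Nat.card Δ % 3 = f % 3 := h2
      rw [h6] at h7
      exact h3 (Nat.dvd_of_mod_eq_zero h7)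
    rw [Nat.mul_mod] at h5
    have h7 : f % 3 = 1 ∨ f % 3 = 2 := by omega
    have h8 : c % 3 = 0 ∨ c % 3 = 1 ∨ c % 3 = 2 := by omega
    rcases h7 with h7 | h7 <;> rcases h8 with h8 | h8 | h8 <;> rw [h7, h8] at h5 <;> omega
  · rintro rfl
    rw [mul_one] at hc
    apply hz
    have h5 : ∀ δ : Δ, z • δ = δ := by
      intro δ
      rw [← hfix]
      have h6 : fixedPoints (Subgroup.zpowers z) Δ = Set.univ := by
        rw [← Set.ncard_univ, ← Nat.card_coe_set_eq] at *
        refine Set.eq_of_subset_of_ncard_le (Set.subset_univ _) ?_ (Set.toFinite _)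
        rw [← Nat.card_coe_set_eq, ← Nat.card_coe_set_eq]
        exact hc.le
      rw [h6]
      exact Set.mem_univ δ
    refine FaithfulSMul.eq_of_smul_eq_smul (α := Δ) ?_
    intro δ
    rw [h5, one_smul]

/-- at most `n / 2` orbits -/
theorem orbits_le_half {H : Type u} {Δ : Type v} [Group H] [Finite H] [MulAction H Δ] [FaithfulSMul H Δ] [Finite Δ]
    (M : Subgroup H) [hMn : M.Normal] (h3 : ¬ 3 ∣ Nat.card Δ) (htr : IsPretransitive M Δ)
    (hst : ∀ ω : Δ, stabilizer M ω = ⊥) (z : H) (hz : z ≠ 1) (hz3 : z ^ 3 = 1) :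
    Nat.card (orbitRel.Quotient (Subgroup.zpowers z) Δ) ≤ Nat.card Δ / 2 := by
  obtain ⟨f, c, h1, h2, h4, h5⟩ := orbits_aux M h3 htr hst z hz hz3
  have h6 : 4 ≤ c := by omega
  have h7 : f * 4 ≤ Nat.card Δ := by
    rw [h1]
    exact Nat.mul_le_mul_left _ h6
  omega

/-- degree 25 -/
theorem orbits_25 {H : Type u} {Δ : Type v} [Group H] [Finite H] [MulAction H Δ] [FaithfulSMul H Δ] [Finite Δ]
    (M : Subgroup H) [hMn : M.Normal] (h25 : Nat.card Δ = 25) (htr : IsPretransitive M Δ)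
    (hst : ∀ ω : Δ, stabilizer M ω = ⊥) (z : H) (hz : z ≠ 1) (hz3 : z ^ 3 = 1) :
    Nat.card (orbitRel.Quotient (Subgroup.zpowers z) Δ) ≤ 9 := by
  obtain ⟨f, c, h1, h2, h4, h5⟩ := orbits_aux M (by rw [h25]; norm_num) htr hst z hz hz3
  rw [h25] at h1 h5
  have h6 : c ∣ 5 ^ 2 := ⟨f, by rw [mul_comm, ← h1]; norm_num⟩
  rw [Nat.dvd_prime_pow Nat.prime_five] at h6
  obtain ⟨k, hk, rfl⟩ := h6
  interval_cases k
  · norm_num at h4
  · norm_num at h2
  · have : f = 1 := by omega
    omega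

end Cfsg.Agent.H889.RC
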