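import Mathlib
import Cfsg.Agent.H527.RC.FHB
import Cfsg.Agent.S0044
import Cfsg.Agent.Lib.Cores
import Cfsg.Agent.Lib.ElemAbGL

/-!
# Commutators in solvable subgroups of `GL (d, 2)`, `d ≤ 5` (S4191, `ColB 3 2 3`, helper889)
-/

set_option autoImplicit false

namespace Cfsg.Agent.H889.RC

open Cfsg.Agent.H527.RC (FH LP PEl)

universe u v

/-- subgroups of automorphism groups of cyclic groups commute -/
theorem mulAut_comm {F : Type u} [Group F] [IsCyclic F] (a b : MulAut F) : a * b = b * a := by
  apply (IsCyclic.mulAutMulEquiv F).injective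
  rw [map_mul, map_mul, mul_comm]

/-- **Commutators are nilpotent** -/
theorem nilpotent_commutator {X : Type u} [Group X] [Finite X] [Group.IsSolvable X] (L : Subgroup X) (hL : L.Normal)
    (h3 : ¬ 3 ∣ Nat.card L) (hX : Nat.card X ∣ 2 ^ 10 * (3 ^ 2 * 1085))
    (hO : ∀ N : Subgroup X, N.Normal → IsPGroup 2 N → N = ⊥) (y : X) :
    Group.IsNilpotent (⁅L, Subgroup.zpowers y⁆ : Subgroup X) := by
  have hFn : (Cfsg.fittingSubgroup L).Normal := Lib.Cores.fittingSubgroup_normal
  have hFc : (Cfsg.fittingSubgroup L).Characteristic := Lib.Cores.fittingSubgroup_characteristic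
  set F := (Cfsg.fittingSubgroup L).map L.subtype with hF
  have hFG : F.Normal := by
    rw [hF]
    infer_instance
  have hnil : Group.IsNilpotent F := by
    have := Lib.Cores.fittingSubgroup_isNilpotent (G := L)
    exact Group.nilpotent_of_surjective (L.subtype.subgroupMap (Cfsg.fittingSubgroup L))
      (L.subtype.subgroupMap_surjective _)
  have hFL : F ≤ L := by
    rw [hF]
    exact Subgroup.map_subtype_le _
  have h3F : ¬ 3 ∣ Nat.card F := fun h => h3 (h.trans (Subgroup.card_dvd_of_le hFL))
  have : Fact (Nat.Prime 2) := ⟨Nat.prime_two⟩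
  have h2F : ¬ 2 ∣ Nat.card F := by
    intro h
    obtain ⟨Q⟩ : Nonempty (Sylow 2 F) := inferInstance
    have hQn : (Q : Subgroup F).Normal := by
      have h1 := (Group.isNilpotent_of_finite_tfae (G := F)).out 0 3
      exact (h1.1 hnil) 2 inferInstance Q
    have hQc : (Q : Subgroup F).Characteristic := Q.characteristic_of_normal hQn
    have h2 : ((Q : Subgroup F).map F.subtype).Normal := inferInstance
    have h3 := hO _ h2 (Q.2.map _)
    rw [Subgroup.map_eq_bot_iff_of_injective _ F.subtype_injective] at h3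
    exact Q.ne_bot_of_dvd_card h h3
  have hFd : Nat.card F ∣ 1085 := by
    have h1 : Nat.card F ∣ 2 ^ 10 * (3 ^ 2 * 1085) := (Subgroup.card_subgroup_dvd_card F).trans hX
    have h2 : (Nat.card F).Coprime (2 ^ 10) :=
      Nat.Coprime.pow_right _ ((Nat.Prime.coprime_iff_not_dvd Nat.prime_two).2 h2F).symm
    have h4 : (Nat.card F).Coprime (3 ^ 2) :=
      Nat.Coprime.pow_right _ ((Nat.Prime.coprime_iff_not_dvd Nat.prime_three).2 h3F).symm
    exact h4.dvd_of_dvd_mul_left (h2.dvd_of_dvd_mul_left h1)
  have hsq : Squarefree (Nat.card F) := by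
    refine Squarefree.squarefree_of_dvd hFd ?_
    rw [show (1085 : ℕ) = 5 * 7 * 31 from by norm_num]
    rw [Nat.squarefree_mul (by norm_num), Nat.squarefree_mul (by norm_num)]
    exact ⟨⟨(by norm_num : Nat.Prime 5).prime.squarefree, (by norm_num : Nat.Prime 7).prime.squarefree⟩,
      (by norm_num : Nat.Prime 31).prime.squarefree⟩
  have : IsZGroup F := IsZGroup.of_squarefree hsq
  have hcyc : IsCyclic F := inferInstance
  have hcen : commutator X ≤ Subgroup.centralizer (F : Set X) := by
    have h1 : commutator X ≤ (MulAut.conjNormal (H := F) : X →* MulAut F).ker := by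
      rw [commutator_def, Subgroup.commutator_le]
      intro a _ b _
      rw [MonoidHom.mem_ker, map_commutatorElement, commutatorElement_eq_one_iff_mul_comm]
      exact mulAut_comm _ _
    intro x hx
    rw [Subgroup.mem_centralizer_iff]
    intro f hf
    have h2 : (MulAut.conjNormal (H := F) : X →* MulAut F) x = 1 := h1 hx
    have h3 := congrArg (fun φ : MulAut F => ((φ ⟨f, hf⟩ : F) : X)) h2
    simp only [MulAut.conjNormal_apply, MulAut.one_apply] at h3
    calc f * x = (x * f * x⁻¹) * x := by rw [h3]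
      _ = x * f := by group
  have hle : ⁅L, Subgroup.zpowers y⁆ ≤ F := by
    intro x hx
    have hxL : x ∈ L := Subgroup.commutator_le_left _ _ hx
    have hxC : x ∈ Subgroup.centralizer (F : Set X) := by
      apply hcen
      rw [commutator_def]
      exact Subgroup.commutator_mono le_top le_top hx
    have h5 : (⟨x, hxL⟩ : L) ∈ Subgroup.centralizer ((Cfsg.fittingSubgroup L : Subgroup L) : Set L) := by
      rw [Subgroup.mem_centralizer_iff]
      intro f hf
      apply Subtype.ext
      rw [Subgroup.mem_centralizer_iff] at hxC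
      exact hxC f ⟨f, hf, rfl⟩
    have h6 := S0044.result h5
    exact ⟨_, h6, rfl⟩
  have hFC : FH 1 F := Cfsg.Agent.H527.RC.FH.one_iff.2 hnil
  exact Cfsg.Agent.H527.RC.FH.one_iff.1 (Cfsg.Agent.H527.RC.FH.of_le hle hFC)

end Cfsg.Agent.H889.RC
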