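import Mathlib
import Cfsg.Agent.H889.RC.Nil
import Cfsg.Agent.S0043
import Cfsg.Agent.S0547
import Cfsg.Agent.S0548

/-!
# Primitive solvable groups of small degree (S4191, `ColB 3 2 3`, helper889)
-/

set_option autoImplicit false

namespace Cfsg.Agent.H889.RC

open MulAction
open Cfsg.Agent.H527.RC (FH LP PEl)

universe u v

/-- commutative groups are nilpotent -/
theorem nil_of_comm {G : Type u} [hG : Group G] (h : ∀ a b : G, a * b = b * a) : Group.IsNilpotent G := by
  let _ : CommGroup G := { hG with mul_comm := h }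
  exact CommGroup.isNilpotent

/-- a self-centralizing abelian normal subgroup with nilpotent image -/
theorem fh_two {H : Type u} [Group H] [Finite H] (M : Subgroup H) [hMn : M.Normal] (hMc : IsMulCommutative M)
    (hcen : Subgroup.centralizer (M : Set H) ≤ M) (K : Subgroup H)
    (hK : Group.IsNilpotent (K.map (MulAut.conjNormal (H := M)))) : FH 2 K := by
  set φ : H →* MulAut M := MulAut.conjNormal with hφ
  have hker : φ.ker ≤ M := by
    intro x hx
    apply hcen
    rw [Subgroup.mem_centralizer_iff]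
    intro f hf
    have h2 : φ x = 1 := hx
    have h3 := congrArg (fun φ : MulAut M => ((φ ⟨f, hf⟩ : M) : H)) h2
    simp only [hφ, MulAut.conjNormal_apply, MulAut.one_apply] at h3
    calc f * x = (x * f * x⁻¹) * x := by rw [h3]
      _ = x * f := by group
  have h1 : FH 1 (φ.comp K.subtype).ker := by
    rw [Cfsg.Agent.H527.RC.FH.one_iff]
    · refine nil_of_comm (fun a b => ?_)
      have ha : ((a : K) : H) ∈ M := hker a.2
      have hb : ((b : K) : H) ∈ M := hker b.2
      have h3 : (⟨((a : K) : H), ha⟩ : M) * ⟨((b : K) : H), hb⟩ = ⟨((b : K) : H), hb⟩ * ⟨((a : K) : H), ha⟩ :=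
        mul_comm' _ _
      exact Subtype.ext (Subtype.ext (congrArg (fun x : M => (x : H)) h3))
  have h2 : FH 1 (φ.comp K.subtype).range := by
    rw [Cfsg.Agent.H527.RC.FH.one_iff, MonoidHom.range_comp, Subgroup.range_subtype]
    exact hK
  exact Cfsg.Agent.H527.RC.FH.of_hom _ h1 h2

/-- order of the automorphism group -/
theorem card_mulAut {M : Type u} [Group M] [Finite M] (hMc : IsMulCommutative M) (h2 : ∀ x : M, x ^ 2 = 1)
    (d : ℕ) (hd : d ≤ 5) (hM : Nat.card M = 2 ^ d) : Nat.card (MulAut M) ∣ 2 ^ 10 * (3 ^ 2 * 1085) := by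
  let _ : CommGroup M := { (inferInstance : Group M) with mul_comm := fun a b => mul_comm' a b }
  have : Fact (Nat.Prime 2) := ⟨Nat.prime_two⟩
  obtain ⟨e⟩ := Lib.ElemAbGL.mulAut_equiv_GL (V := M) 2 d h2 hM
  have h1 : Nat.card (MulAut M) = Nat.card (GL (Fin d) (ZMod 2)) := Nat.card_congr e.toEquiv
  rw [h1, Matrix.card_GL_field, ZMod.card]
  interval_cases d <;> simp [Fin.prod_univ_succ]

/-- the case of degree `2 ^ d`, `d ≤ 5` -/
theorem fh_two_of_two {H : Type u} [Group H] [Finite H] [hs : Group.IsSolvable H] (M : Subgroup H) [hMn : M.Normal] (hM : M ≠ ⊥)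
    (hmin : ∀ K : Subgroup H, K.Normal → K ≤ M → K = ⊥ ∨ K = M) (L : Subgroup H) (hL : LP 3 L) (y : H)
    (hcen : Subgroup.centralizer (M : Set H) ≤ M) (d : ℕ) (hd0 : d ≠ 0) (hd : d ≤ 5) (hMd : Nat.card M = 2 ^ d) :
    FH 2 (⁅L, Subgroup.zpowers y⁆ : Subgroup H) := by
  have hMc := (S0043.result M hM hmin).1
  have : Fact (Nat.Prime 2) := ⟨Nat.prime_two⟩
  have hM2 : IsPGroup 2 M := IsPGroup.of_card hMd
  have hpow : ∀ x : M, x ^ 2 = 1 := by
    obtain ⟨-, p, hp, hpM⟩ := S0043.result M hM hmin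
    have hp2 : p = 2 := by
      by_contra hne
      apply hM
      rw [eq_bot_iff]
      intro x hx
      rw [Subgroup.mem_bot]
      obtain ⟨k, hk⟩ := hM2 ⟨x, hx⟩
      have h1 : orderOf x ∣ 2 ^ k := orderOf_dvd_of_pow_eq_one (congrArg Subtype.val hk)
      have h2 : orderOf x ∣ p := orderOf_dvd_of_pow_eq_one (hpM x hx)
      have h3 : Nat.Coprime p (2 ^ k) := Nat.Coprime.pow_right _ ((Nat.coprime_primes hp Nat.prime_two).2 hne)
      rw [← orderOf_eq_one_iff]
      exact Nat.eq_one_of_dvd_coprimes h3 h2 h1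
    subst hp2
    intro x
    exact Subtype.ext (hpM x.1 x.2)
  set φ : H →* MulAut M := MulAut.conjNormal with hφ
  refine fh_two M hMc hcen _ ?_
  rw [← hφ]
  set ψ : H →* φ.range := φ.rangeRestrict with hψ
  have hψs : Function.Surjective ψ := φ.rangeRestrict_surjective
  have hLn : (L.map ψ).Normal := hL.normal.map ψ hψs
  have h3 : ¬ 3 ∣ Nat.card (L.map ψ) := fun h => hL.cop (h.trans (Subgroup.card_map_dvd L ψ))
  have hX : Nat.card φ.range ∣ 2 ^ 10 * (3 ^ 2 * 1085) :=
    (Subgroup.card_subgroup_dvd_card _).trans (card_mulAut hMc hpow d hd hMd)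
  have hXs : Group.IsSolvable φ.range := Group.isSolvable_of_surjective hψs
  have hO : ∀ N : Subgroup φ.range, N.Normal → IsPGroup 2 N → N = ⊥ := by
    intro N hN hN2
    -- the fixed points of `N`
    let C : Subgroup H :=
      { carrier := {m | ∃ hm : m ∈ M, ∀ a ∈ N, (a : MulAut M) ⟨m, hm⟩ = ⟨m, hm⟩}
        one_mem' := ⟨M.one_mem, fun a _ => map_one (a : MulAut M)⟩
        mul_mem' := by
          rintro x z ⟨hx, hx'⟩ ⟨hz, hz'⟩
          refine ⟨M.mul_mem hx hz, fun a ha => ?_⟩
          have h1 : (⟨x * z, M.mul_mem hx hz⟩ : M) = ⟨x, hx⟩ * ⟨z, hz⟩ := rfl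
          rw [h1, map_mul, hx' a ha, hz' a ha]
        inv_mem' := by
          rintro x ⟨hx, hx'⟩
          refine ⟨M.inv_mem hx, fun a ha => ?_⟩
          have h1 : (⟨x⁻¹, M.inv_mem hx⟩ : M) = (⟨x, hx⟩ : M)⁻¹ := rfl
          rw [h1, map_inv, hx' a ha] }
    have hCM : C ≤ M := fun m hm => hm.1
    have hCn : C.Normal := by
      refine ⟨fun m hm g => ?_⟩
      obtain ⟨hm, hm'⟩ := hm
      refine ⟨hMn.conj_mem m hm g, fun a ha => ?_⟩
      have h1 : (⟨g * m * g⁻¹, hMn.conj_mem m hm g⟩ : M) = φ g ⟨m, hm⟩ := by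
        apply Subtype.ext
        rw [hφ, MulAut.conjNormal_apply]
      have h2 : (ψ g)⁻¹ * a * ψ g ∈ N := by
        have := hN.conj_mem a ha (ψ g)⁻¹
        rwa [inv_inv] at this
      have h3 := hm' _ h2
      have h4 : (((ψ g)⁻¹ * a * ψ g : φ.range) : MulAut M) = (φ g)⁻¹ * (a : MulAut M) * φ g := rfl
      rw [h4, MulAut.mul_apply, MulAut.mul_apply, MulAut.inv_apply, MulEquiv.symm_apply_eq] at h3
      rw [h1]
      exact h3
    have hC1 : C ≠ ⊥ := by
      intro hC
      let _ : MulAction N M :=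
        { smul := fun a m => ((a : φ.range) : MulAut M) m
          one_smul := fun m => rfl
          mul_smul := fun a b m => rfl }
      have h5 := hN2.card_modEq_card_fixedPoints M
      have h6 : Nat.card (fixedPoints N M) = 1 := by
        rw [Nat.card_eq_one_iff_unique]
        refine ⟨⟨?_⟩, ⟨⟨1, fun a => map_one ((a : φ.range) : MulAut M)⟩⟩⟩
        have h7 : ∀ m : fixedPoints N M, (m : M) = 1 := by
          intro m
          have h8 : ((m : M) : H) ∈ C := ⟨(m : M).2, fun a ha => m.2 ⟨a, ha⟩⟩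
          rw [hC, Subgroup.mem_bot] at h8
          exact Subtype.ext h8
        intro a b
        apply Subtype.ext
        rw [h7 a, h7 b]
      rw [h6, hMd] at h5
      have h7 : 2 ∣ 2 ^ d := dvd_pow_self 2 hd0
      have h8 : 2 ^ d % 2 = 1 % 2 := h5
      omega
    have hCM' : C = M := (hmin C hCn hCM).resolve_left hC1
    rw [eq_bot_iff]
    intro a ha
    rw [Subgroup.mem_bot]
    apply Subtype.ext
    apply MulEquiv.ext
    intro m
    have h9 : (m : H) ∈ C := by
      rw [hCM']
      exact m.2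
    exact h9.2 a ha
  have h4 := nilpotent_commutator (L.map ψ) hLn h3 hX hO (ψ y)
  have h5 : (⁅L, Subgroup.zpowers y⁆ : Subgroup H).map ψ = ⁅L.map ψ, Subgroup.zpowers (ψ y)⁆ := by
    rw [Subgroup.map_commutator, MonoidHom.map_zpowers]
  rw [← h5] at h4
  have h6 : (⁅L, Subgroup.zpowers y⁆ : Subgroup H).map φ =
      ((⁅L, Subgroup.zpowers y⁆ : Subgroup H).map ψ).map φ.range.subtype := by
    rw [Subgroup.map_map]
    rfl
  rw [h6]
  exact Group.nilpotent_of_surjective (φ.range.subtype.subgroupMap _) (φ.range.subtype.subgroupMap_surjective _)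

/-- the case of prime degree -/
theorem fh_two_of_prime {H : Type u} [Group H] [Finite H] (M : Subgroup H) [hMn : M.Normal]
    (L : Subgroup H) (y : H)
    (hcen : Subgroup.centralizer (M : Set H) ≤ M) (hMd : (Nat.card M).Prime) :
    FH 2 (⁅L, Subgroup.zpowers y⁆ : Subgroup H) := by
  have : Fact (Nat.card M).Prime := ⟨hMd⟩
  have hcyc : IsCyclic M := isCyclic_of_prime_card rfl
  have hMc : IsMulCommutative M := hcyc.isMulCommutative
  refine fh_two M hMc hcen _ ?_
  refine nil_of_comm (fun a b => ?_)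
  exact Subtype.ext (mulAut_comm _ _)

end Cfsg.Agent.H889.RC
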