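import Mathlib
import Cfsg.Agent.H889.RC.Small
import Cfsg.Agent.H889.RC.Count
import Cfsg.Agent.H889.RC.Orb
import Cfsg.Agent.S4374
import Cfsg.Agent.H553.SolvPerm
import Cfsg.Agent.Lib.MinNormal

/-!
# `ColB 3 2 3` (S4191, helper889)

`colB_three`.
-/

set_option autoImplicit false

namespace Cfsg.Agent.H889.RC

open MulAction
open Cfsg.Agent.H527.RC (FH LP PEl Rig ColB)

universe u v

/-- the order of a complement acting irreducibly -/
theorem card_le_cube {H : Type u} [Group H] [Finite H] [hs : Group.IsSolvable H] (M A : Subgroup H) [hMn : M.Normal]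
    (hMc : IsMulCommutative M) (hA : A ⊓ Subgroup.centralizer (M : Set H) = ⊥)
    (hirr : ∀ K : Subgroup H, K ≤ M → A ≤ Subgroup.normalizer (K : Set H) → K = ⊥ ∨ K = M) :
    Nat.card A ≤ Nat.card M ^ 3 := by
  let _ : CommGroup M := { (inferInstance : Group M) with mul_comm := fun a b => mul_comm' a b }
  let act : DistribMulAction A (Additive M) :=
    { smul := fun a m => Additive.ofMul ((MulAut.conjNormal (a : H) : MulAut M) m.toMul)
      one_smul := fun m => by
        change Additive.ofMul ((MulAut.conjNormal ((1 : A) : H) : MulAut M) m.toMul) = m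
        rw [Subgroup.coe_one, map_one]
        rfl
      mul_smul := fun a b m => by
        change Additive.ofMul ((MulAut.conjNormal ((a * b : A) : H) : MulAut M) m.toMul) =
          Additive.ofMul ((MulAut.conjNormal (a : H) : MulAut M) ((MulAut.conjNormal (b : H) : MulAut M) m.toMul))
        rw [Subgroup.coe_mul, map_mul]
        rfl
      smul_zero := fun a => by
        change Additive.ofMul ((MulAut.conjNormal (a : H) : MulAut M) 1) = 0
        rw [map_one]
        rfl
      smul_add := fun a m m' => by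
        change Additive.ofMul ((MulAut.conjNormal (a : H) : MulAut M) (m.toMul * m'.toMul)) =
          Additive.ofMul ((MulAut.conjNormal (a : H) : MulAut M) m.toMul) +
            Additive.ofMul ((MulAut.conjNormal (a : H) : MulAut M) m'.toMul)
        rw [map_mul]
        rfl }
  have hact : ∀ (a : A) (m : Additive M), a • m = Additive.ofMul ((MulAut.conjNormal (a : H) : MulAut M) m.toMul) :=
    fun a m => rfl
  have hfaith : FaithfulSMul A (Additive M) := by
    have key : ∀ a : A, (∀ m : Additive M, a • m = m) → a = 1 := by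
      intro a ha
      have h1 : (a : H) ∈ A ⊓ Subgroup.centralizer (M : Set H) := by
        refine Subgroup.mem_inf.2 ⟨a.2, ?_⟩
        rw [Subgroup.mem_centralizer_iff]
        intro f hf
        have h3 := congrArg (fun x : Additive M => ((x.toMul : M) : H)) (ha (Additive.ofMul ⟨f, hf⟩))
        simp only [hact, toMul_ofMul, MulAut.conjNormal_apply] at h3
        calc f * a = (a * f * (a : H)⁻¹) * a := by rw [h3]
          _ = a * f := by group
      rw [hA, Subgroup.mem_bot] at h1
      exact Subtype.ext h1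
    refine ⟨fun {a b} hab => ?_⟩
    have h2 : b⁻¹ * a = 1 := by
      apply key
      intro m
      rw [mul_smul, hab, inv_smul_smul]
    exact (inv_mul_eq_one.1 h2).symm
  have hcr : ∀ U : AddSubgroup (Additive M), (∀ a : A, ∀ v ∈ U, a • v ∈ U) →
      ∃ W : AddSubgroup (Additive M), (∀ a : A, ∀ w ∈ W, a • w ∈ W) ∧ U ⊓ W = ⊥ ∧ U ⊔ W = ⊤ := by
    intro U hU
    let K : Subgroup H := (AddSubgroup.toSubgroup' U).map M.subtype
    have hKM : K ≤ M := Subgroup.map_subtype_le _
    have hKn : A ≤ Subgroup.normalizer (K : Set H) := by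
      have h1 : ∀ a ∈ A, ∀ k ∈ K, a * k * a⁻¹ ∈ K := by
        rintro a ha _ ⟨m, hm, rfl⟩
        refine ⟨(MulAut.conjNormal a : MulAut M) m, ?_, ?_⟩
        · exact hU ⟨a, ha⟩ (Additive.ofMul m) hm
        · exact MulAut.conjNormal_apply a m
      intro a ha
      rw [Subgroup.mem_normalizer_iff]
      intro k
      refine ⟨fun hk => h1 a ha k hk, fun hk => ?_⟩
      have h2 := h1 a⁻¹ (A.inv_mem ha) _ hk
      have h3 : a⁻¹ * (a * k * a⁻¹) * a⁻¹⁻¹ = k := by group
      rwa [h3] at h2
    rcases hirr K hKM hKn with h | h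
    · refine ⟨⊤, fun _ _ _ => AddSubgroup.mem_top _, ?_, sup_top_eq U⟩
      rw [inf_top_eq, eq_bot_iff]
      intro u hu
      have h4 : ((u.toMul : M) : H) ∈ K := ⟨u.toMul, hu, rfl⟩
      rw [h, Subgroup.mem_bot] at h4
      rw [AddSubgroup.mem_bot]
      have h5 : u.toMul = 1 := Subtype.ext h4
      exact h5
    · refine ⟨⊥, ?_, inf_bot_eq U, ?_⟩
      · intro a w hw
        rw [AddSubgroup.mem_bot] at hw ⊢
        rw [hw, smul_zero]
      · rw [sup_bot_eq, eq_top_iff]
        intro u _
        have h4 : ((u.toMul : M) : H) ∈ K := by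
          rw [h]
          exact (u.toMul : M).2
        obtain ⟨m, hm, hmu⟩ := h4
        have h5 : m = u.toMul := Subtype.ext hmu
        rw [h5] at hm
        exact hm
  have hAs : Group.IsSolvable A := inferInstance
  obtain ⟨v₁, v₂, v₃, hv⟩ := S4374.result hAs hcr
  have h1 : Nat.card (Additive M × Additive M × Additive M) = Nat.card M ^ 3 := by
    rw [Nat.card_prod, Nat.card_prod]
    have h2 : Nat.card (Additive M) = Nat.card M := rfl
    rw [h2]
    ring
  rw [← h1]
  refine Nat.card_le_card_of_injective (fun a : A => (a • v₁, a • v₂, a • v₃)) ?_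
  intro a b hab
  have e1 : a • v₁ = b • v₁ := congrArg Prod.fst hab
  have e2 : a • v₂ = b • v₂ := congrArg (fun x => x.2.1) hab
  have e3 : a • v₃ = b • v₃ := congrArg (fun x => x.2.2) hab
  have h2 : b⁻¹ * a = 1 := by
    apply hv
    · rw [mul_smul, e1, inv_smul_smul]
    · rw [mul_smul, e2, inv_smul_smul]
    · rw [mul_smul, e3, inv_smul_smul]
  exact (inv_mul_eq_one.1 h2).symm

/-- degree 25 -/
theorem card_le_25 {H : Type u} {Δ : Type v} [Group H] [Finite H] [hs : Group.IsSolvable H] [MulAction H Δ]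
    [FaithfulSMul H Δ] [Finite Δ] (hprim : IsPreprimitive H Δ) (h25 : Nat.card Δ = 25) :
    Nat.card H ≤ 25 * 24 * 23 := by
  let R : Subgroup (Equiv.Perm Δ) := (MulAction.toPermHom H Δ).range
  have hRs : Group.IsSolvable R := Group.isSolvable_of_surjective (MulAction.toPermHom H Δ).rangeRestrict_surjective
  have hRp : IsPreprimitive R Δ := by
    let f : Δ →ₑ[(MulAction.toPermHom H Δ).rangeRestrict] Δ :=
      { toFun := id
        map_smul' := fun h δ => rfl }
    exact IsPreprimitive.of_surjective (f := f) Function.surjective_id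
  obtain ⟨p, d, hp, hd, h1, h2⟩ := H553.SolvPerm.card_le_descFactorial R hRp (by rw [h25]; norm_num)
  have hcard : Nat.card H = Nat.card R := by
    refine Nat.card_congr (Equiv.ofBijective (MulAction.toPermHom H Δ).rangeRestrict
      ⟨?_, (MulAction.toPermHom H Δ).rangeRestrict_surjective⟩)
    intro a b hab
    have h3 : (MulAction.toPermHom H Δ) a = (MulAction.toPermHom H Δ) b := congrArg Subtype.val hab
    exact MulAction.toPerm_injective h3
  rw [hcard]
  refine h2.trans ?_
  rw [h25] at h1 ⊢
  have hd2 : d = 2 := by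
    have h3 : p ∣ 5 ^ 2 := by
      rw [show (5 : ℕ) ^ 2 = 25 from by norm_num, h1]
      exact dvd_pow_self p hd.ne'
    have h4 : p = 5 := (Nat.prime_dvd_prime_iff_eq hp Nat.prime_five).1 (hp.dvd_of_dvd_pow h3)
    subst h4
    exact (Nat.pow_right_injective (le_refl 2 |>.trans (by norm_num : 2 ≤ 5))
      (show 5 ^ 2 = 5 ^ d from by rw [← h1])).symm
  subst hd2
  decide

/-- **`ColB 3 2 3`**. -/
theorem colB_three : ColB.{u} 3 2 3 := by
  intro H Δ _ _ _ _ _ _ _ L hprim hL h3 hy
  obtain ⟨y, hyp, hy⟩ := hy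
  have hne : Nonempty Δ := inferInstance
  obtain ⟨ω⟩ := hne
  -- a minimal normal subgroup
  have hHne : (⊤ : Subgroup H) ≠ ⊥ := by
    intro h
    apply hy
    have h1 : (⁅L, Subgroup.zpowers y⁆ : Subgroup H) = ⊥ := by
      rw [eq_bot_iff, ← h]
      exact le_top
    rw [h1]
    exact Cfsg.Agent.H527.RC.FH.of_subsingleton _
  obtain ⟨M, -, hM, hMn', hmin'⟩ := Lib.MinNormal.exists_minimal_normal_le (⊤ : Subgroup H) hHne
  have hMn : M.Normal := Subgroup.normalizer_eq_top_iff.1 (top_le_iff.1 hMn')
  have hmin : ∀ K : Subgroup H, K.Normal → K ≤ M → K = ⊥ ∨ K = M := by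
    intro K hK hKM
    refine hmin' K hKM ?_
    rw [Subgroup.normalizer_eq_top_iff.2 hK]
  have hMc := (S0043.result M hM hmin).1
  obtain ⟨htr, hst, s, d, hs, hd, hn, hMd⟩ := S0547.result hprim M hM hmin
  obtain ⟨hcompl, hcent, hirr⟩ := S0548.result hprim M hM hmin ω
  have hcen : Subgroup.centralizer (M : Set H) ≤ M := by
    intro x hx
    obtain ⟨⟨m, a⟩, hma⟩ := hcompl.2 x
    have h1 : (m : H) * (a : H) = x := hma
    have h2 : (m : H) ∈ Subgroup.centralizer (M : Set H) := by
      rw [Subgroup.mem_centralizer_iff]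
      intro f hf
      exact congrArg (fun x : M => (x : H)) (mul_comm' (⟨f, hf⟩ : M) m)
    have h3 : (a : H) ∈ stabilizer H ω ⊓ Subgroup.centralizer (M : Set H) := by
      refine Subgroup.mem_inf.2 ⟨a.2, ?_⟩
      have h4 : (a : H) = (m : H)⁻¹ * x := by rw [← h1]; group
      rw [h4]
      exact mul_mem (inv_mem h2) hx
    rw [hcent, Subgroup.mem_bot] at h3
    rw [← h1, h3, mul_one]
    exact m.2
  -- the order of `H`
  have hcard : Nat.card H ≤ Nat.card Δ ^ 4 := by
    have h1 : Nat.card M * Nat.card (stabilizer H ω) = Nat.card H := hcompl.card_mul_card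
    have h2 := card_le_cube M (stabilizer H ω) hMc hcent hirr
    rw [← h1, hn, ← hMd]
    calc Nat.card M * Nat.card (stabilizer H ω) ≤ Nat.card M * Nat.card M ^ 3 := Nat.mul_le_mul_left _ h2
      _ = Nat.card M ^ 4 := by ring
  by_cases h49 : 49 ≤ Nat.card Δ
  · refine exists_three (Nat.card Δ / 2) ?_ (big_ineq _ _ _ h49 hcard le_rfl)
    intro z hz hz3
    exact orbits_le_half M h3 htr hst z hz hz3
  by_cases h25 : Nat.card Δ = 25
  · refine exists_three 9 ?_ ?_
    · intro z hz hz3
      exact orbits_25 M h25 htr hst z hz hz3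
    · rw [h25]
      exact ineq_25 _ (card_le_25 hprim h25)
  exfalso
  apply hy
  by_cases hd1 : d = 1
  · subst hd1
    rw [pow_one] at hMd
    exact fh_two_of_prime M L y hcen (by rw [hMd]; exact hs)
  have h2d : 2 ≤ d := by omega
  have hlt : s ^ d < 49 := by
    rw [← hn]
    omega
  have hs7 : s < 7 := by
    by_contra hcon
    have h1 : 7 ^ 2 ≤ s ^ d :=
      (Nat.pow_le_pow_left (not_lt.1 hcon) 2).trans (Nat.pow_le_pow_right hs.pos h2d)
    omega
  have hs3 : s ≠ 3 := by
    rintro rfl
    apply h3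
    rw [hn]
    exact dvd_pow_self 3 (by omega)
  have hs2 : s = 2 := by
    have h1 : 2 ≤ s := hs.two_le
    interval_cases s
    · rfl
    · exact absurd rfl hs3
    · exact absurd hs (by norm_num)
    · exfalso
      have h2 : d < 3 := by
        by_contra hcon
        have h4 : 5 ^ 3 ≤ 5 ^ d := Nat.pow_le_pow_right (by norm_num) (not_lt.1 hcon)
        omega
      have h4 : d = 2 := by omega
      subst h4
      exact h25 hn
    · exact absurd hs (by norm_num)
  subst hs2
  have hd5 : d ≤ 5 := by
    by_contra hcon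
    have h4 : 2 ^ 6 ≤ 2 ^ d := Nat.pow_le_pow_right (by norm_num) (by omega)
    omega
  exact fh_two_of_two M hM hmin L hL y hcen d (by omega) hd5 hMd

end Cfsg.Agent.H889.RC
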